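import Cfsg.Agent.SmallSimple.RealPrime.Setup

/-!
# No simple group of order 4032

For `p = 7` there are three exceptional characters, of equal degree 9, and one further nonprincipal
character, of degree 8, not vanishing at `s`; the class formula at the inverting involution has no
integral solution.
-/

set_option autoImplicit false
set_option linter.style.haveILetI false

namespace CfsgLib.RealPrime

open Finset CfsgLib.Char

/-- The admissible degrees. -/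
theorem seven_degrees : ∀ a ∈ List.range 64, ∀ e ∈ List.range 64, ∀ u ∈ ([1, -1] : List ℤ), ∀ w ∈ ([1, -1] : List ℤ),
    (decide (2 ≤ a) && decide (2 ≤ e) && 4032 % a == 0 && 4032 % e == 0 && ((a : ℤ) - 2 * u) % 7 == 0 &&
      ((e : ℤ) - 6 * w) % 7 == 0 && -1 + u * a + w * e == 0) = true →
      a = 9 ∧ e = 8 ∧ u = 1 ∧ w = -1 := by
  decide +kernel

theorem zmod7_sum (f : ZMod 7 → ℤ) : ∑ b, f b = f 0 + f 1 + f 2 + f 3 + f 4 + f 5 + f 6 :=
  Fin.sum_univ_seven f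

theorem seven_facts : (4 : ZMod 7) = -3 ∧ (5 : ZMod 7) = -2 ∧ (6 : ZMod 7) = -1 ∧ (1 : ZMod 7) ≠ 0 ∧
    (2 : ZMod 7) ≠ 0 ∧ (3 : ZMod 7) ≠ 0 ∧ ¬((2 : ZMod 7) = 1 ∨ (2 : ZMod 7) = -1) ∧
    (2 : ZMod 7) * 0 = 0 ∧ (2 : ZMod 7) * 1 = 2 ∧ (2 : ZMod 7) * 2 = 4 ∧ (2 : ZMod 7) * 3 = 6 ∧
    (2 : ZMod 7) * 4 = 1 ∧ (2 : ZMod 7) * 5 = 3 ∧ (2 : ZMod 7) * 6 = 5 := by decide

/-- The half norm of a pair of differences. -/
def hex (g h : ℤ) : ℤ := g * g + g * h + h * h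

theorem hex_nonneg (g h : ℤ) : 0 ≤ hex g h := by
  unfold hex; nlinarith [sq_nonneg (g + h), sq_nonneg g, sq_nonneg h]

theorem hex_eq_zero {g h : ℤ} (e : hex g h = 0) : g = 0 ∧ h = 0 := by
  unfold hex at e
  constructor <;> nlinarith [sq_nonneg (g + h), sq_nonneg g, sq_nonneg h]

theorem hex_small {g h : ℤ} (e : hex g h ≤ 3) :
    (g = 0 ∧ h = 0) ∨ (hex g h = 1 ∧ ((g = 1 ∧ h = 0) ∨ (g = -1 ∧ h = 0) ∨ (g = 0 ∧ h = 1) ∨
      (g = 0 ∧ h = -1) ∨ (g = 1 ∧ h = -1) ∨ (g = -1 ∧ h = 1))) ∨ (hex g h = 3 ∧ (g - h) % 3 = 0) := by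
  have h1 : -2 ≤ g ∧ g ≤ 2 := by
    unfold hex at e; constructor <;> nlinarith [sq_nonneg (g + 2 * h)]
  have h2 : -2 ≤ h ∧ h ≤ 2 := by
    unfold hex at e; constructor <;> nlinarith [sq_nonneg (2 * g + h)]
  obtain ⟨h1, h1'⟩ := h1
  obtain ⟨h2, h2'⟩ := h2
  interval_cases g <;> interval_cases h <;> simp [hex] at e ⊢

/-- A row with `hex = 1` points in one of three directions. -/
theorem direction {g h S : ℤ} (e : (g = 1 ∧ h = 0) ∨ (g = -1 ∧ h = 0) ∨ (g = 0 ∧ h = 1) ∨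
    (g = 0 ∧ h = -1) ∨ (g = 1 ∧ h = -1) ∨ (g = -1 ∧ h = 1)) (hS : S = 1 ∨ S = -1) (hc : (S - (g - h)) % 3 = 0) :
    (g = S ∧ h = 0) ∨ (g = 0 ∧ h = -S) ∨ (g = -S ∧ h = S) := by
  rcases hS with rfl | rfl <;> omega

/-- Three rows in three directions: equal degrees, equal values. -/
theorem three_rows {g h S : Fin 3 → ℤ} {d y : Fin 3 → ℤ} {e ye w : ℤ}
    (hdir : ∀ i, (g i = S i ∧ h i = 0) ∨ (g i = 0 ∧ h i = -S i) ∨ (g i = -S i ∧ h i = S i))
    (hS : ∀ i, S i = 1 ∨ S i = -1) (hd : ∀ i, 2 ≤ d i) (he : 2 ≤ e) (hw : w = 1 ∨ w = -1)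
    (hdg : d 0 * g 0 + d 1 * g 1 + d 2 * g 2 = 0) (hdh : d 0 * h 0 + d 1 * h 1 + d 2 * h 2 = 0)
    (hyg : y 0 * g 0 + y 1 * g 1 + y 2 * g 2 = 0) (hyh : y 0 * h 0 + y 1 * h 1 + y 2 * h 2 = 0)
    (hdS : -3 + (d 0 * S 0 + d 1 * S 1 + d 2 * S 2) + 3 * w * e = 0)
    (hyS : -3 + (y 0 * S 0 + y 1 * S 1 + y 2 * S 2) + 3 * w * ye = 0) :
    (∀ i, d i = d 0 ∧ S i = S 0 ∧ y i = y 0) ∧ -1 + S 0 * d 0 + w * e = 0 ∧ -1 + S 0 * y 0 + w * ye = 0 := by
  have h0 := hdir 0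
  have h1 := hdir 1
  have h2 := hdir 2
  have d0 := hd 0
  have d1 := hd 1
  have d2 := hd 2
  rcases hS 0 with s0 | s0 <;> rcases hS 1 with s1 | s1 <;> rcases hS 2 with s2 | s2 <;>
    rw [s0, s1, s2] at hdS hyS <;> rw [s0] at h0 <;> rw [s1] at h1 <;> rw [s2] at h2 <;>
    rcases hw with rfl | rfl <;>
    rcases h0 with ⟨a0, b0⟩ | ⟨a0, b0⟩ | ⟨a0, b0⟩ <;> rcases h1 with ⟨a1, b1⟩ | ⟨a1, b1⟩ | ⟨a1, b1⟩ <;>
    rcases h2 with ⟨a2, b2⟩ | ⟨a2, b2⟩ | ⟨a2, b2⟩ <;>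
    rw [a0, a1, a2] at hdg hyg <;> rw [b0, b1, b2] at hdh hyh <;>
    first
      | (exfalso; omega)
      | (refine ⟨fun i => ?_, by rw [s0]; omega, by rw [s0]; omega⟩; fin_cases i <;>
          refine ⟨?_, ?_, ?_⟩ <;> simp only [Fin.isValue, Fin.zero_eta, Fin.mk_one, Fin.reduceFinMk, s0, s1, s2] <;>
          omega)

theorem abs_le_three {x : ℤ} (h : x * x ≤ 15) : -3 ≤ x ∧ x ≤ 3 := ⟨by nlinarith, by nlinarith⟩

theorem le_sixty_three {x : ℤ} (h : x * x ≤ 4031) : x ≤ 63 := by nlinarith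

theorem no_square {n : ℕ} (h : n ^ 2 = 2032128) : False := by
  rcases Nat.lt_or_ge n 1426 with h' | h'
  · have := Nat.pow_le_pow_left (show n ≤ 1425 by omega) 2
    omega
  · have := Nat.pow_le_pow_left h' 2
    omega

theorem one_or_two {x : ℤ} (h : x * x ≤ 12) (h' : ¬ (3 : ℤ) ∣ x) : x = 1 ∨ x = -1 ∨ x = 2 ∨ x = -2 := by
  have := abs_le_three (show x * x ≤ 15 by omega)
  omega

variable {G : Type*} [Group G] [Finite G] [IsSimpleGroup G]

set_option maxHeartbeats 8000000 in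
theorem false_of_forty_thirty_two (hG : ¬ IsMulCommutative G) (hn : Nat.card G = 4032) : False := by
  classical
  obtain ⟨e4, e5, e6, e10, e20, e30, e2, f0, f1, f2, f3, f4, f5, f6⟩ := seven_facts
  haveI : Fact (Nat.Prime 7) := ⟨by norm_num⟩
  letI : Fintype G := Fintype.ofFinite G
  obtain ⟨s, t, E⟩ := exists_dihedral_of_opts (p := 7) (k := 288) (u := 2) (a := 6) (w := 3) (b := 2)
    hG (by norm_num) hn (by decide +kernel) (by decide +kernel) (by norm_num)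
  obtain ⟨d, y, c, hS⟩ := E.exists_system hG hn E.orderOf_t
  set triv : G → ℂ := fun _ => 1 with htriv
  have htm : triv ∈ irrFinset G := mem_irrFinset.mpr isIrrCharacter_one
  obtain ⟨hd1, hy1, hc1⟩ := hS.triv
  let S : (G → ℂ) → ℤ := fun χ => c χ 1 + c χ 2 + c χ 3 - 3 * c χ 0
  let g : (G → ℂ) → ℤ := fun χ => c χ 1 - c χ 2
  let h : (G → ℂ) → ℤ := fun χ => c χ 2 - c χ 3
  have hc4 : ∀ χ ∈ irrFinset G, c χ 4 = c χ 3 := fun χ hχ =>
    (congrArg (c χ) e4).trans (hS.even_c χ hχ 3)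
  have hc5 : ∀ χ ∈ irrFinset G, c χ 5 = c χ 2 := fun χ hχ =>
    (congrArg (c χ) e5).trans (hS.even_c χ hχ 2)
  have hc6 : ∀ χ ∈ irrFinset G, c χ 6 = c χ 1 := fun χ hχ =>
    (congrArg (c χ) e6).trans (hS.even_c χ hχ 1)
  have hd : ∀ χ ∈ irrFinset G, d χ = 7 * c χ 0 + 2 * S χ := fun χ hχ => by
    rw [hS.sum_c χ hχ, zmod7_sum, hc4 χ hχ, hc5 χ hχ, hc6 χ hχ]; simp only [S]; ring
  have hS1 : S triv = -3 := by simp [S, htriv, hc1, e10, e20, e30]
  have hg1 : g triv = 0 := by simp [g, htriv, hc1, e10, e20]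
  have hh1 : h triv = 0 := by simp [h, htriv, hc1, e20, e30]
  have hcross1 : ∑ χ ∈ irrFinset G, (2 * (S χ * S χ) + 28 * hex (g χ) (h χ)) = 126 := by
    have h' := hS.cross 1 one_ne_zero
    rw [if_pos (Or.inl rfl)] at h'
    have h'' : ∑ χ ∈ irrFinset G, 3 * (((7 : ℕ) : ℤ) * ∑ b, c χ b * c χ (1 * b) - d χ * d χ) = 126 := by
      rw [← mul_sum, h']; norm_num
    refine Eq.trans (sum_congr rfl fun χ hχ => ?_) h''
    rw [zmod7_sum]
    simp only [one_mul, hc4 χ hχ, hc5 χ hχ, hc6 χ hχ, hd χ hχ, S, g, h, hex]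
    push_cast
    ring
  have hcross2 : ∑ χ ∈ irrFinset G, (2 * (S χ * S χ) - 14 * hex (g χ) (h χ)) = 0 := by
    have h' := hS.cross 2 e20
    rw [if_neg e2] at h'
    have h'' : ∑ χ ∈ irrFinset G, 3 * (((7 : ℕ) : ℤ) * ∑ b, c χ b * c χ (2 * b) - d χ * d χ) = 0 := by
      rw [← mul_sum, h']; norm_num
    refine Eq.trans (sum_congr rfl fun χ hχ => ?_) h''
    rw [zmod7_sum]
    simp only [f0, f1, f2, f3, f4, f5, f6, hc4 χ hχ, hc5 χ hχ, hc6 χ hχ, hd χ hχ, S, g, h, hex]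
    push_cast
    ring
  rw [sum_add_distrib, ← mul_sum, ← mul_sum] at hcross1
  rw [sum_sub_distrib, ← mul_sum, ← mul_sum] at hcross2
  have hSS : ∑ χ ∈ irrFinset G, S χ * S χ = 21 := by omega
  have hDD : ∑ χ ∈ irrFinset G, hex (g χ) (h χ) = 3 := by omega
  have hdd : ∀ b, ∑ χ ∈ irrFinset G, d χ * c χ b = 576 := fun b => by
    have h' := hS.degrees b
    norm_num at h'
    linarith
  have hlin : ∀ (f : (G → ℂ) → ℤ) (v : ℤ), (∀ b, ∑ χ ∈ irrFinset G, f χ * c χ b = v) →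
      ∑ χ ∈ irrFinset G, f χ * S χ = 0 ∧ ∑ χ ∈ irrFinset G, f χ * g χ = 0 ∧
        ∑ χ ∈ irrFinset G, f χ * h χ = 0 := by
    intro f v hv
    refine ⟨?_, ?_, ?_⟩
    · rw [sum_congr rfl fun χ _ => show f χ * S χ = f χ * c χ 1 + f χ * c χ 2 + f χ * c χ 3 - 3 * (f χ * c χ 0) by
        simp only [S]; ring, sum_sub_distrib, sum_add_distrib, sum_add_distrib, ← mul_sum, hv, hv, hv, hv]
      ring
    · rw [sum_congr rfl fun χ _ => show f χ * g χ = f χ * c χ 1 - f χ * c χ 2 by simp only [g]; ring,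
        sum_sub_distrib, hv, hv, sub_self]
    · rw [sum_congr rfl fun χ _ => show f χ * h χ = f χ * c χ 2 - f χ * c χ 3 by simp only [h]; ring,
        sum_sub_distrib, hv, hv, sub_self]
  obtain ⟨hdS, hdg, hdh⟩ := hlin d 576 hdd
  obtain ⟨hyS, hyg, hyh⟩ := hlin y 0 hS.values
  set I := (irrFinset G).erase triv with hI
  have hmem : ∀ χ ∈ I, χ ∈ irrFinset G := fun χ hχ => mem_of_mem_erase hχ
  rw [← add_sum_erase _ _ htm, hS1] at hSS hdS hyS
  rw [← add_sum_erase _ _ htm, hg1, hh1] at hDD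
  rw [← add_sum_erase _ _ htm, hg1] at hdg hyg
  rw [← add_sum_erase _ _ htm, hh1] at hdh hyh
  rw [← hI] at hSS hdS hyS hDD hdg hyg hdh hyh
  simp only [show hex 0 0 = 0 from rfl, zero_add, mul_zero] at hDD hdg hyg hdh hyh
  set Q := I.filter fun χ => hex (g χ) (h χ) ≠ 0 with hQ
  have hzero : ∀ χ ∈ I, χ ∉ Q → g χ = 0 ∧ h χ = 0 := fun χ hχ hn =>
    hex_eq_zero (by_contra fun h0 => hn (mem_filter.2 ⟨hχ, h0⟩))
  have hsplit : ∀ F : (G → ℂ) → ℤ, (∀ χ ∈ I, g χ = 0 → h χ = 0 → F χ = 0) → ∑ χ ∈ I, F χ = ∑ χ ∈ Q, F χ :=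
    fun F hF => (sum_subset (filter_subset _ _) fun χ hχ hn => hF χ hχ (hzero χ hχ hn).1 (hzero χ hχ hn).2).symm
  rw [hsplit _ (fun χ _ h1 h2 => by rw [h1, h2]; rfl)] at hDD
  rw [hsplit _ (fun χ _ h1 _ => by rw [h1, mul_zero])] at hdg hyg
  rw [hsplit _ (fun χ _ _ h2 => by rw [h2, mul_zero])] at hdh hyh
  have hrest : ∀ χ ∈ I, χ ∉ Q → ∃ k, S χ = 3 * k := fun χ hχ hn => by
    obtain ⟨h1, h2⟩ := hzero χ hχ hn
    exact ⟨c χ 1 - c χ 0, by simp only [S, g, h] at h1 h2 ⊢; linarith⟩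
  have hhex : ∀ χ ∈ Q, (hex (g χ) (h χ) = 1 ∧ ((g χ = 1 ∧ h χ = 0) ∨ (g χ = -1 ∧ h χ = 0) ∨ (g χ = 0 ∧ h χ = 1) ∨
      (g χ = 0 ∧ h χ = -1) ∨ (g χ = 1 ∧ h χ = -1) ∨ (g χ = -1 ∧ h χ = 1))) ∨
      (hex (g χ) (h χ) = 3 ∧ (g χ - h χ) % 3 = 0) := fun χ hχ => by
    have h1 := single_le_sum (fun ψ _ => hex_nonneg (g ψ) (h ψ)) hχ
    rw [hDD] at h1
    rcases hex_small h1 with ⟨a, b⟩ | h' | h'
    · exact absurd (show hex (g χ) (h χ) = 0 by rw [a, b]; rfl) (mem_filter.1 hχ).2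
    · exact Or.inl h'
    · exact Or.inr h'
  have hcong : ∀ χ, (S χ - (g χ - h χ)) % 3 = 0 := fun χ => by simp only [S, g, h]; omega
  have hone : ∀ χ ∈ Q, hex (g χ) (h χ) = 1 := by
    intro χ hχ
    rcases hhex χ hχ with h' | ⟨h3, hm⟩
    · exact h'.1
    exfalso
    rw [← add_sum_erase _ _ hχ, h3] at hDD
    have hz : ∑ ψ ∈ Q.erase χ, hex (g ψ) (h ψ) = 0 := by linarith
    have hall : ∀ ψ ∈ Q.erase χ, hex (g ψ) (h ψ) = 0 :=
      (sum_eq_zero_iff_of_nonneg fun x _ => hex_nonneg _ _).1 hz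
    have hdiv : ∀ ψ ∈ I, (9 : ℤ) ∣ S ψ * S ψ := fun ψ hψ => by
      obtain ⟨k, hk⟩ : ∃ k, S ψ = 3 * k := by
        by_cases hψQ : ψ ∈ Q
        · by_cases hψχ : ψ = χ
          · subst hψχ
            have := hcong ψ
            exact ⟨S ψ / 3, by omega⟩
          · exact absurd (hall ψ (mem_erase.2 ⟨hψχ, hψQ⟩)) (mem_filter.1 hψQ).2
        · exact hrest ψ hψ hψQ
      exact ⟨k * k, by rw [hk]; ring⟩
    have := dvd_sum hdiv
    omega
  have hQ3 : Q.card = 3 := by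
    rw [sum_congr rfl hone, sum_const, nsmul_one] at hDD
    exact_mod_cast hDD
  obtain ⟨A, B, D, hAB, hAD, hBD, hQe⟩ := card_eq_three.1 hQ3
  let f : Fin 3 → G → ℂ := ![A, B, D]
  have hfQ : ∀ i, f i ∈ Q := fun i => by fin_cases i <;> simp [f, hQe]
  have hfI : ∀ i, f i ∈ I := fun i => (mem_filter.1 (hfQ i)).1
  have hsum3 : ∀ F : (G → ℂ) → ℤ, ∑ χ ∈ Q, F χ = F (f 0) + F (f 1) + F (f 2) := fun F => by
    rw [hQe, sum_insert (by simp [hAB, hAD]), sum_pair hBD, ← add_assoc]; rfl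
  rw [hsum3] at hdg hyg hdh hyh
  set R := I.filter fun χ => χ ∉ Q with hR
  have hsplitR : ∀ F : (G → ℂ) → ℤ, ∑ χ ∈ I, F χ = F (f 0) + F (f 1) + F (f 2) + ∑ χ ∈ R, F χ := fun F => by
    rw [← hsum3, ← sum_filter_add_sum_filter_not I (fun χ => χ ∈ Q)]
    congr 2
    ext χ
    simp only [hQ, mem_filter]; tauto
  rw [hsplitR] at hSS hdS hyS
  have hnd : ∀ i, ¬ (3 : ℤ) ∣ S (f i) := fun i hdvd => by
    have h1 := hcong (f i)
    rcases hhex _ (hfQ i) with ⟨-, h'⟩ | ⟨h', -⟩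
    · omega
    · have := hone _ (hfQ i)
      omega
  have hR9 : ∀ χ ∈ R, ∃ k, S χ = 3 * k := fun χ hχ => hrest χ (mem_filter.1 hχ).1 (mem_filter.1 hχ).2
  have hR0 : 0 ≤ ∑ χ ∈ R, S χ * S χ := sum_nonneg fun χ _ => mul_self_nonneg _
  obtain ⟨k, hk⟩ : (9 : ℤ) ∣ ∑ χ ∈ R, S χ * S χ := dvd_sum fun χ hχ => by
    obtain ⟨k, hk⟩ := hR9 χ hχ
    exact ⟨k * k, by rw [hk]; ring⟩
  have hsmall : ∀ i, S (f i) = 1 ∨ S (f i) = -1 ∨ S (f i) = 2 ∨ S (f i) = -2 := fun i => by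
    have h' := hnd i
    have hq : S (f i) * S (f i) ≤ 12 := by
      have := mul_self_nonneg (S (f 0))
      have := mul_self_nonneg (S (f 1))
      have := mul_self_nonneg (S (f 2))
      fin_cases i <;> simp only [Fin.isValue, Fin.zero_eta, Fin.mk_one, Fin.reduceFinMk] <;> linarith
    exact one_or_two hq h'
  -- the total over the exceptional rows is three
  have hcases : (∀ i, S (f i) = 1 ∨ S (f i) = -1) ∨
      ((∀ i, S (f i) = 2 ∨ S (f i) = -2) ∧ k = 0) := by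
    rcases hsmall 0 with a | a | a | a <;> rcases hsmall 1 with b | b | b | b <;>
      rcases hsmall 2 with e | e | e | e <;> rw [a, b, e, hk] at hSS <;>
      first
        | (exfalso; omega)
        | (refine Or.inl fun i => ?_; fin_cases i <;> simp [a, b, e]; done)
        | (refine Or.inr ⟨fun i => ?_, by omega⟩; fin_cases i <;> simp [a, b, e])
  rcases hcases with hcases | ⟨hcases, hk0⟩
  swap
  · rw [hk0, mul_zero] at hk
    have hall := (sum_eq_zero_iff_of_nonneg fun x _ => mul_self_nonneg (S x)).1 hk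
    rw [sum_eq_zero (s := R) fun χ hχ => by rw [mul_self_eq_zero.1 (hall χ hχ), mul_zero], hd1] at hdS
    rcases hcases 0 with a | a <;> rcases hcases 1 with b | b <;> rcases hcases 2 with e | e <;>
      rw [a, b, e] at hdS <;> omega
  have hR' : ∑ χ ∈ R, S χ * S χ = 9 := by
    rcases hcases 0 with a | a <;> rcases hcases 1 with b | b <;> rcases hcases 2 with e | e <;>
      rw [a, b, e] at hSS <;> linarith
  obtain ⟨X, hX, hX0⟩ : ∃ X ∈ R, S X ≠ 0 := by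
    by_contra h'
    simp only [not_exists, not_and, not_not] at h'
    rw [sum_eq_zero fun χ hχ => by rw [h' χ hχ, mul_zero]] at hR'
    norm_num at hR'
  obtain ⟨w, hw, hSX⟩ : ∃ w : ℤ, (w = 1 ∨ w = -1) ∧ S X = 3 * w := by
    obtain ⟨j, hj⟩ := hR9 X hX
    have h1 := single_le_sum (fun ψ _ => mul_self_nonneg (S ψ)) hX
    rw [hR'] at h1
    have := abs_le_three (show S X * S X ≤ 15 by linarith)
    exact ⟨j, by omega, hj⟩
  have hother : ∀ χ ∈ R.erase X, S χ = 0 := by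
    rw [← add_sum_erase _ _ hX, hSX] at hR'
    have h3 : ∑ χ ∈ R.erase X, S χ * S χ = 0 := by rcases hw with h' | h' <;> subst h' <;> linarith
    exact fun χ hχ =>
      mul_self_eq_zero.1 ((sum_eq_zero_iff_of_nonneg fun x _ => mul_self_nonneg (S x)).1 h3 χ hχ)
  have hsumR : ∀ F : (G → ℂ) → ℤ, ∑ χ ∈ R, F χ * S χ = F X * (3 * w) := fun F => by
    rw [← add_sum_erase _ _ hX, sum_eq_zero fun χ hχ => by rw [hother χ hχ, mul_zero], add_zero, hSX]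
  rw [hsumR] at hdS hyS
  have hXI : X ∈ I := (mem_filter.1 hX).1
  have hf := fun i => hS.facts (f i) (hmem _ (hfI i)) (ne_of_mem_erase (hfI i))
  obtain ⟨hX2, hXd, hXn, hXl, hXu, hX4⟩ := hS.facts X (hmem X hXI) (ne_of_mem_erase hXI)
  obtain ⟨hall, hde, hye⟩ := three_rows (g := fun i => g (f i)) (h := fun i => h (f i)) (S := fun i => S (f i))
    (d := fun i => d (f i)) (y := fun i => y (f i)) (e := d X) (ye := y X)
    (fun i => direction ((hhex _ (hfQ i)).resolve_right fun h' => by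
      have := hone _ (hfQ i)
      omega).2 (hcases i) (hcong _))
    hcases (fun i => (hf i).1) hX2 hw hdg hdh hyg hyh
    (by rw [hd1] at hdS; linarith) (by rw [hy1] at hyS; linarith)
  obtain ⟨hA2, hAd, hAn, hAl, hAu, hA4⟩ := hf 0
  have hd0 := hd _ (hmem _ (hfI 0))
  have hdX := hd X (hmem X hXI)
  rw [hSX] at hdX
  have hA63 : d (f 0) ≤ 63 := le_sixty_three (by norm_num at hAd; linarith)
  have hX63 : d X ≤ 63 := le_sixty_three (by norm_num at hXd; linarith)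
  obtain ⟨ha, he, hu', hw'⟩ := seven_degrees (d (f 0)).toNat (List.mem_range.2 (by omega)) (d X).toNat
    (List.mem_range.2 (by omega)) (S (f 0)) (by rcases hcases 0 with h' | h' <;> simp [h']) w
    (by rcases hw with h' | h' <;> simp [h']) (by
      have h1 : 4032 % (d (f 0)).toNat = 0 := Nat.mod_eq_zero_of_dvd (by
        have := Int.natAbs_dvd_natAbs.2 hAn
        rwa [Int.natAbs_natCast, show (d (f 0)).natAbs = (d (f 0)).toNat by omega] at this)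
      have h2 : 4032 % (d X).toNat = 0 := Nat.mod_eq_zero_of_dvd (by
        have := Int.natAbs_dvd_natAbs.2 hXn
        rwa [Int.natAbs_natCast, show (d X).natAbs = (d X).toNat by omega] at this)
      simp only [Bool.and_eq_true, decide_eq_true_eq, beq_iff_eq]
      rw [Int.toNat_of_nonneg (by omega), Int.toNat_of_nonneg (by omega)]
      exact ⟨⟨⟨⟨⟨⟨by omega, by omega⟩, h1⟩, h2⟩, by omega⟩, by omega⟩, hde⟩)
  -- the class formula
  obtain ⟨N, hN, hform⟩ := hS.formula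
  have hN' : N = 42 := by
    rcases hN with ⟨-, h'⟩ | ⟨h', -⟩
    · rw [h']; norm_num
    · exact absurd (IsConj.refl t) h'
  set K := Nat.card {x : G // IsConj t x}
  have hterm : ∀ χ ∈ irrFinset G, y χ * y χ * ((7 : ℕ) * c χ 0 - d χ) * (((4032 : ℕ) : ℤ) / d χ) =
      -2 * (y χ * y χ * (4032 / d χ) * S χ) := fun χ hχ => by
    rw [hd χ hχ]; push_cast; ring
  rw [sum_congr rfl hterm, ← mul_sum, ← add_sum_erase _ _ htm, ← hI, hsplitR,
    hsumR (fun χ => y χ * y χ * (4032 / d χ)), hS1, hd1, hy1, (hall 1).1, (hall 1).2.1, (hall 1).2.2,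
    (hall 2).1, (hall 2).2.1, (hall 2).2.2, hN', hu', hw'] at hform
  rw [hu', hw'] at hye
  have hy : y X = y (f 0) - 1 := by omega
  have ha' : d (f 0) = 9 := by omega
  have he' : d X = 8 := by omega
  rw [ha', he', hy] at hform
  norm_num at hform
  refine no_square (n := ((K : ℤ) * (y (f 0) - 9)).natAbs) ?_
  zify
  rw [sq_abs]
  have hsq : ((K : ℤ) * (y (f 0) - 9)) ^ 2 =
      (K : ℤ) ^ 2 * 81 - (K : ℤ) ^ 2 * y (f 0) * 18 + (K : ℤ) ^ 2 * y (f 0) ^ 2 := by ring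
  ring_nf at hform
  rw [hsq]
  linarith

end CfsgLib.RealPrime
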