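import Cfsg.Agent.SmallSimple.ColumnData
import Cfsg.Agent.SmallSimple.InvolValues
import Cfsg.Agent.Char.ClassProducts
import Cfsg.Agent.Char.Burnside
import Cfsg.Agent.Blocks.Regular

/-!
# A real self-centralising element of prime order with a dihedral normaliser

For an element `s` of odd prime order `p` with `C(s) = ⟨s⟩` and `|N(⟨s⟩)| = 2 p` the multiplicities of
the eigenvalues of `s` in all irreducible representations satisfy a system of integral equations,
coupled with the values at an involution `z` by column orthogonality and the class multiplication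
formula.
-/

set_option autoImplicit false
set_option linter.style.haveILetI false
set_option linter.unusedSectionVars false

namespace CfsgLib.RealPrime

open Finset CfsgLib.Char
open scoped ComplexConjugate commutatorElement

variable {G : Type*} [Group G] [Finite G] {p : ℕ} [hp : Fact p.Prime]

/-- The hypotheses on `s` and the inverting involution `t`. -/
structure Dihedral (p : ℕ) (s t : G) : Prop where
  odd : p ≠ 2
  ord : orderOf s = p
  cent : Nat.card (Subgroup.centralizer ({s} : Set G)) = p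
  norm : Nat.card (Subgroup.normalizer ((Subgroup.zpowers s : Subgroup G) : Set G)) = 2 * p
  invol : t * t = 1
  ne_one : t ≠ 1
  inverts : t * s * t⁻¹ = s⁻¹

theorem exists_dihedral (hp2 : p ≠ 2) (P : Sylow p G) (hP : Nat.card (P : Subgroup G) = p)
    (hC : Nat.card (Subgroup.centralizer ((P : Subgroup G) : Set G)) = p)
    (hN : Nat.card (Subgroup.normalizer ((P : Subgroup G) : Set G)) = 2 * p) :
    ∃ s t : G, Dihedral p s t := by
  haveI : IsCyclic (P : Subgroup G) := isCyclic_of_prime_card hP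
  haveI : Fact (Nat.Prime 2) := ⟨Nat.prime_two⟩
  obtain ⟨⟨s, hsP⟩, hs⟩ := IsCyclic.exists_ofOrder_eq_natCard (α := (P : Subgroup G))
  rw [hP, Subgroup.orderOf_mk] at hs
  have hPs : (P : Subgroup G) = Subgroup.zpowers s :=
    (Subgroup.eq_of_le_of_card_ge (Subgroup.zpowers_le.2 hsP) (by rw [hP, Nat.card_zpowers, hs])).symm
  have hCs : ∀ y ∈ (P : Subgroup G), y ≠ 1 → Subgroup.centralizer ({y} : Set G) =
      Subgroup.centralizer ((P : Subgroup G) : Set G) := by
    intro y hy hy1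
    have hyp : orderOf y = p := ((Nat.dvd_prime hp.out).1 (hP ▸ Subgroup.orderOf_dvd_natCard _ hy)).resolve_left
      fun h => hy1 (orderOf_eq_one_iff.1 h)
    rw [(Subgroup.eq_of_le_of_card_ge (Subgroup.zpowers_le.2 hy) (by rw [hP, Nat.card_zpowers, hyp])).symm,
      Subgroup.zpowers_eq_closure, Subgroup.centralizer_closure]
  obtain ⟨⟨t, htN⟩, ht⟩ := exists_prime_orderOf_dvd_card'
    (G := Subgroup.normalizer ((P : Subgroup G) : Set G)) 2 (hN ▸ dvd_mul_right 2 p)
  rw [Subgroup.orderOf_mk] at ht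
  have htt : t * t = 1 := by rw [← sq, ← ht, pow_orderOf_eq_one]
  have hu : t * s * t⁻¹ ∈ (P : Subgroup G) := (Subgroup.mem_normalizer_iff.1 htN s).1 hsP
  have hcomm : ∀ a ∈ (P : Subgroup G), ∀ b ∈ (P : Subgroup G), a * b = b * a := fun a ha b hb =>
    setLike_mul_comm (S := Subgroup G) ha hb
  have hy : t * (s * (t * s * t⁻¹)) * t⁻¹ = s * (t * s * t⁻¹) := by
    calc t * (s * (t * s * t⁻¹)) * t⁻¹ = t * s * t⁻¹ * ((t * t) * s * (t * t)⁻¹) := by group
      _ = t * s * t⁻¹ * s := by rw [htt, one_mul, inv_one, mul_one]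
      _ = _ := hcomm _ hu _ hsP
  have hy1 : s * (t * s * t⁻¹) = 1 := by
    by_contra hy1
    have hm : t ∈ Subgroup.centralizer ({s * (t * s * t⁻¹)} : Set G) :=
      Subgroup.mem_centralizer_singleton_iff.2 (mul_inv_eq_iff_eq_mul.1 hy)
    rw [hCs _ (mul_mem hsP hu) hy1] at hm
    have := Subgroup.orderOf_dvd_natCard _ hm
    rw [ht, hC] at this
    exact hp2 ((Nat.prime_dvd_prime_iff_eq Nat.prime_two hp.out).1 this).symm
  have hs1 : s ≠ 1 := fun h => hp.out.one_lt.ne (by rw [← hs, h, orderOf_one])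
  exact ⟨s, t, hp2, hs, by rw [hCs s hsP hs1, hC], hPs ▸ hN, htt,
    fun h => by rw [h, orderOf_one] at ht; omega, eq_inv_of_mul_eq_one_right hy1⟩

/-- The integral system for the irreducible characters and an involution `z`. -/
structure System (p : ℕ) [Fact p.Prime] (t : G) (n : ℕ) (z : G) (d y : (G → ℂ) → ℤ) (c : (G → ℂ) → ZMod p → ℤ) : Prop where
  facts : ∀ χ ∈ irrFinset G, χ ≠ (fun _ => 1) → 2 ≤ d χ ∧ d χ * d χ ≤ (n : ℤ) - 1 ∧ d χ ∣ (n : ℤ) ∧
    -d χ < y χ ∧ y χ < d χ ∧ 4 ∣ d χ - y χ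
  sum_c : ∀ χ ∈ irrFinset G, d χ = ∑ b, c χ b
  even_c : ∀ χ ∈ irrFinset G, ∀ b, c χ (-b) = c χ b
  triv : d (fun _ => 1) = 1 ∧ y (fun _ => 1) = 1 ∧ ∀ b, c (fun _ => 1) b = if b = 0 then 1 else 0
  degrees : ∀ b, (p : ℤ) * ∑ χ ∈ irrFinset G, d χ * c χ b = n
  values : ∀ b, ∑ χ ∈ irrFinset G, y χ * c χ b = 0
  cross : ∀ k : ZMod p, k ≠ 0 → ∑ χ ∈ irrFinset G, ((p : ℤ) * ∑ b, c χ b * c χ (k * b) - d χ * d χ) =
    if k = 1 ∨ k = -1 then (p : ℤ) * ((p : ℤ) - 1) else 0
  formula : ∃ N : ℤ, ((IsConj t z ∧ N = p * (p - 1)) ∨ (¬ IsConj t z ∧ N = 0)) ∧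
    (Nat.card {x : G // IsConj z x} : ℤ) ^ 2 *
      ∑ χ ∈ irrFinset G, y χ * y χ * ((p : ℤ) * c χ 0 - d χ) * ((n : ℤ) / d χ) = N * (n : ℤ) ^ 2

namespace Dihedral

variable {s t : G} (E : Dihedral p s t)

include E

theorem s_ne_one : s ≠ 1 := fun h => hp.out.one_lt.ne (by rw [← E.ord, h, orderOf_one])

theorem orderOf_t : orderOf t = 2 := orderOf_eq_prime (by rw [sq, E.invol]) E.ne_one

theorem centralizer_eq : Subgroup.centralizer ({s} : Set G) = Subgroup.zpowers s :=
  (Subgroup.eq_of_le_of_card_ge (Subgroup.zpowers_le.2 (Subgroup.mem_centralizer_singleton_iff.2 rfl))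
    (by rw [E.cent, Nat.card_zpowers, E.ord])).symm

theorem centralizer_pow {j : ℕ} (hj : ¬ p ∣ j) :
    Subgroup.centralizer ({s ^ j} : Set G) = Subgroup.zpowers s := by
  rw [← E.centralizer_eq]
  obtain ⟨m, hm⟩ := exists_pow_eq_self_of_coprime (x := s) (n := j)
    (by rw [E.ord]; exact (hp.out.coprime_iff_not_dvd.2 hj).symm)
  refine le_antisymm (fun u hu => ?_) fun u hu => ?_
  · rw [Subgroup.mem_centralizer_singleton_iff] at hu ⊢
    have := (show Commute u (s ^ j) from hu).pow_right m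
    rwa [hm] at this
  · rw [Subgroup.mem_centralizer_singleton_iff] at hu ⊢
    exact (show Commute u s from hu).pow_right j

theorem conj_t (j : ℕ) : t * s ^ j * t⁻¹ = (s ^ j)⁻¹ := by rw [← conj_pow, E.inverts, inv_pow]

/-- Conjugate powers are equal or inverse. -/
theorem pow_of_isConj {i j : ℕ} (hj : ¬ p ∣ j) (h : IsConj (s ^ i) (s ^ j)) :
    s ^ j = s ^ i ∨ s ^ j = (s ^ i)⁻¹ := by
  obtain ⟨g, hg⟩ := isConj_iff.1 h
  obtain ⟨m, hm⟩ := exists_pow_eq_self_of_coprime (x := s) (n := j)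
    (by rw [E.ord]; exact (hp.out.coprime_iff_not_dvd.2 hj).symm)
  set N := Subgroup.normalizer ((Subgroup.zpowers s : Subgroup G) : Set G) with hN
  have hgN : g ∈ N := by
    have hs' : g * s ^ i * g⁻¹ = s ^ j := hg
    have hsub : Subgroup.zpowers s = (Subgroup.zpowers s).map (MulAut.conj g).toMonoidHom := by
      refine Subgroup.eq_of_le_of_card_ge ?_ (by
        rw [Subgroup.card_map_of_injective (MulEquiv.injective _)])
      rw [Subgroup.zpowers_le]
      refine ⟨(s ^ i) ^ m, pow_mem (pow_mem (Subgroup.mem_zpowers s) i) m, ?_⟩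
      show g * (s ^ i) ^ m * g⁻¹ = s
      rw [← conj_pow, hs', hm]
    rw [hN, Subgroup.mem_normalizer_iff]
    intro u
    constructor
    · intro hu
      rw [hsub]
      exact ⟨u, hu, rfl⟩
    · intro hu
      rw [hsub] at hu
      obtain ⟨v, hv, hvu⟩ := hu
      have := (MulAut.conj g).injective hvu
      exact this ▸ hv
  have htN : t ∈ N := by
    rw [hN, Subgroup.mem_normalizer_iff]
    intro u
    have key : ∀ v ∈ Subgroup.zpowers s, t * v * t⁻¹ ∈ Subgroup.zpowers s := by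
      rintro v ⟨k, rfl⟩
      show t * s ^ k * t⁻¹ ∈ _
      rw [← conj_zpow, E.inverts]
      exact zpow_mem (inv_mem (Subgroup.mem_zpowers s)) k
    refine ⟨key u, fun hu => ?_⟩
    have := key _ hu
    have e : t * (t * u * t⁻¹) * t⁻¹ = t * t * u * (t * t)⁻¹ := by group
    rwa [e, E.invol, one_mul, inv_one, mul_one] at this
  have hle : Subgroup.zpowers s ≤ N := Subgroup.le_normalizer
  have hidx : ((Subgroup.zpowers s).subgroupOf N).index = 2 := by
    refine Nat.eq_of_mul_eq_mul_left hp.out.pos ?_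
    conv_rhs => rw [mul_comm p 2, ← E.norm, ← Subgroup.card_mul_index ((Subgroup.zpowers s).subgroupOf N)]
    rw [Nat.card_congr (Subgroup.subgroupOfEquivOfLe hle).toEquiv, Nat.card_zpowers, E.ord]
  have htns : t ∉ Subgroup.zpowers s := fun h => by
    have := Subgroup.orderOf_dvd_natCard _ h
    rw [E.orderOf_t, Nat.card_zpowers, E.ord] at this
    exact E.odd ((Nat.prime_dvd_prime_iff_eq Nat.prime_two hp.out).1 this).symm
  have hcase : g ∈ Subgroup.zpowers s ∨ t * g ∈ Subgroup.zpowers s := by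
    by_cases h' : g ∈ Subgroup.zpowers s
    · exact Or.inl h'
    refine Or.inr ?_
    have := (Subgroup.mul_mem_iff_of_index_two hidx (a := (⟨t, htN⟩ : N)) (b := ⟨g, hgN⟩))
    simp only [Subgroup.mem_subgroupOf, Subgroup.coe_mul] at this
    exact this.2 (by simp [htns, h'])
  rcases hcase with h' | h'
  · left
    obtain ⟨k, rfl⟩ := h'
    rw [← hg, ((Commute.refl s).zpow_left k).pow_right i |>.eq, mul_inv_cancel_right]
  · right
    obtain ⟨k, hk⟩ := h'
    simp only at hk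
    have hg' : g = t * s ^ k := by rw [hk, ← mul_assoc, E.invol, one_mul]
    rw [← hg, hg', ← E.conj_t i, mul_inv_rev,
      show t * s ^ k * s ^ i * ((s ^ k)⁻¹ * t⁻¹) = t * (s ^ k * s ^ i * (s ^ k)⁻¹) * t⁻¹ by group,
      ((Commute.refl s).zpow_left k).pow_right i |>.eq, mul_inv_cancel_right]

theorem not_isConj_t (j : ℕ) {z : G} (hz : orderOf z = 2) : ¬ IsConj z (s ^ j) := fun hc => by
  obtain ⟨g, hg⟩ := isConj_iff.1 hc
  have h1 := (MulAut.conj g).orderOf_eq z
  rw [MulAut.conj_apply, hg, hz] at h1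
  have h2 : orderOf (s ^ j) ∣ p := E.ord ▸ orderOf_pow_dvd (x := s) j
  rw [h1] at h2
  exact E.odd ((Nat.prime_dvd_prime_iff_eq Nat.prime_two hp.out).1 h2).symm

/-- An involution inverting a power of `s` is conjugate to `t`. -/
theorem isConj_of_inverts {j : ℕ} (hj : ¬ p ∣ j) {u : G} (hu : u * u = 1)
    (h : u * s ^ j * u⁻¹ = (s ^ j)⁻¹) : IsConj t u ∧ u * t ∈ Subgroup.zpowers s := by
  have hm : u * t ∈ Subgroup.zpowers s := by
    rw [← E.centralizer_pow hj, Subgroup.mem_centralizer_singleton_iff, ← mul_inv_eq_iff_eq_mul]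
    calc u * t * s ^ j * (u * t)⁻¹ = u * (t * s ^ j * t⁻¹) * u⁻¹ := by group
      _ = s ^ j := by rw [E.conj_t, ← conj_inv, h, inv_inv]
  refine ⟨?_, hm⟩
  classical
  obtain ⟨i, -, hi⟩ := mem_image.1 ((mem_zpowers_iff_mem_range_orderOf).1 hm)
  -- square roots in the cyclic group of odd order
  obtain ⟨k, hk⟩ := hp.out.odd_of_ne_two E.odd
  have h5 : s ^ p = 1 := by rw [← E.ord, pow_orderOf_eq_one]
  refine isConj_iff.2 ⟨s ^ ((k + 1) * i), ?_⟩
  have h6 : t * (s ^ ((k + 1) * i))⁻¹ = s ^ ((k + 1) * i) * t := by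
    rw [← E.conj_t, ← mul_assoc, ← mul_assoc, E.invol, one_mul, inv_eq_of_mul_eq_one_right E.invol]
  rw [mul_assoc, h6, ← mul_assoc, ← pow_add, show (k + 1) * i + (k + 1) * i = p * i + i by rw [hk]; ring,
    pow_add, pow_mul, h5, one_pow, one_mul, hi, mul_assoc, E.invol, mul_one]

/-- Pairs of conjugates of an involution with product a power of `s`. -/
theorem card_pairs {j : ℕ} (hj : ¬ p ∣ j) {z : G} (hz : orderOf z = 2) [Decidable (IsConj t z)] :
    Nat.card {q : G × G // IsConj z q.1 ∧ IsConj z q.2 ∧ q.1 * q.2 = s ^ j} =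
      if IsConj t z then p else 0 := by
  have hinvol : ∀ x, IsConj z x → x * x = 1 := fun x hx => by
    obtain ⟨g, rfl⟩ := isConj_iff.1 hx
    rw [conj_mul, ← sq z, ← hz, pow_orderOf_eq_one, mul_one, mul_inv_cancel]
  have hinvert : ∀ u v : G, IsConj z u → IsConj z v → u * v = s ^ j → u * s ^ j * u⁻¹ = (s ^ j)⁻¹ := by
    intro u v hu hv huv
    rw [← huv, mul_inv_rev, inv_eq_of_mul_eq_one_right (hinvol u hu),
      inv_eq_of_mul_eq_one_right (hinvol v hv), ← mul_assoc, hinvol u hu, one_mul]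
  split_ifs with hc
  swap
  · haveI : IsEmpty {q : G × G // IsConj z q.1 ∧ IsConj z q.2 ∧ q.1 * q.2 = s ^ j} := ⟨fun q => hc
      (((E.isConj_of_inverts hj (hinvol _ q.2.1) (hinvert _ _ q.2.1 q.2.2.1 q.2.2.2)).1).trans q.2.1.symm)⟩
    exact Nat.card_of_isEmpty
  rw [← E.ord, ← Nat.card_zpowers]
  have hct : ∀ c ∈ Subgroup.zpowers s, (c * t) * (c * t) = 1 ∧ c * t * s ^ j * (c * t)⁻¹ = (s ^ j)⁻¹ := by
    rintro c ⟨k, rfl⟩
    refine ⟨?_, ?_⟩
    · show s ^ k * t * (s ^ k * t) = 1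
      calc s ^ k * t * (s ^ k * t) = s ^ k * (t * s ^ k * t⁻¹) * (t * t) := by group
        _ = 1 := by rw [← conj_zpow, E.inverts, inv_zpow, E.invol, mul_one, mul_inv_cancel]
    · show s ^ k * t * s ^ j * (s ^ k * t)⁻¹ = (s ^ j)⁻¹
      calc s ^ k * t * s ^ j * (s ^ k * t)⁻¹ = s ^ k * (t * s ^ j * t⁻¹) * (s ^ k)⁻¹ := by group
        _ = (s ^ j)⁻¹ := by
          rw [E.conj_t, (((Commute.refl s).zpow_left k).pow_right j).inv_right.eq, mul_inv_cancel_right]
  have hcz : ∀ c ∈ Subgroup.zpowers s, IsConj z (c * t) := fun c hcm =>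
    hc.symm.trans (E.isConj_of_inverts hj (hct c hcm).1 (hct c hcm).2).1
  refine (Nat.card_eq_of_bijective (fun c : Subgroup.zpowers s =>
    (⟨((c : G) * t, (c : G) * t * s ^ j), hcz c c.2, ?_, by rw [← mul_assoc, (hct c c.2).1, one_mul]⟩ :
      {q : G × G // IsConj z q.1 ∧ IsConj z q.2 ∧ q.1 * q.2 = s ^ j})) ⟨?_, ?_⟩).symm
  · have h1 : (c : G) * t * s ^ j = ((c : G) * (s ^ j)⁻¹) * t := by rw [← E.conj_t]; group
    rw [h1]
    exact hcz _ (mul_mem c.2 (inv_mem (pow_mem (Subgroup.mem_zpowers s) j)))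
  · intro a b hab
    simp only [Subtype.mk.injEq, Prod.mk.injEq, mul_left_inj] at hab
    exact Subtype.ext hab.1
  · rintro ⟨⟨u, v⟩, hu, hv, huv⟩
    simp only at hu hv huv
    refine ⟨⟨u * t, (E.isConj_of_inverts hj (hinvol u hu) (hinvert u v hu hv huv)).2⟩, ?_⟩
    refine Subtype.ext (Prod.ext ?_ ?_)
    · simp only; rw [mul_assoc, E.invol, mul_one]
    · simp only; rw [mul_assoc u t t, E.invol, mul_one, ← huv, ← mul_assoc, hinvol u hu, one_mul]

theorem exists_system [IsSimpleGroup G] [Fintype G] (hG : ¬ IsMulCommutative G) {n : ℕ}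
    (hn : Nat.card G = n) {z : G} (hz : orderOf z = 2) :
    ∃ d y c, System p t n z d y c := by
  classical
  have hperf : commutator G = ⊤ := by
    rcases IsSimpleGroup.eq_bot_or_eq_top_of_normal (commutator G) inferInstance with h | h
    · exfalso
      refine hG ⟨⟨fun a b => ?_⟩⟩
      have h2 : ⁅a, b⁆ ∈ commutator G := by
        rw [commutator_def]
        exact Subgroup.commutator_mem_commutator (Subgroup.mem_top a) (Subgroup.mem_top b)
      rwa [h, Subgroup.mem_bot, commutatorElement_eq_one_iff_mul_comm] at h2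
    · exact h
  have hvals : ∀ χ : G → ℂ, ∃ (d : ℕ) (y : ℤ) (c : ZMod p → ℕ), χ ∈ irrFinset G →
      χ 1 = d ∧ 0 < d ∧ χ z = y ∧ 4 ∣ (d : ℤ) - y ∧ -(d : ℤ) ≤ y ∧ y ≤ d ∧
      (∀ j : ZMod p, χ (s ^ j.val) = ∑ b, (c b : ℂ) * ZMod.stdAddChar (b * j)) ∧
      ∀ b, c (-b) = c b := by
    intro χ
    by_cases hm : χ ∈ irrFinset G
    swap
    · exact ⟨0, 0, 0, fun h => absurd h hm⟩
    have hχ := mem_irrFinset.1 hm
    obtain ⟨d, hd0, hd⟩ := IsIrrCharacter.exists_degree hχ
    obtain ⟨y, hy, hy4, hyl, hyu⟩ := CfsgLib.InvolValues.invol_mod_four hperf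
      (IsIrrCharacter.isCharacter hχ) (t := z) (by rw [← sq, ← hz, pow_orderOf_eq_one]) hd
    obtain ⟨c, hc⟩ := ColumnData.exists_count E.ord (IsIrrCharacter.isCharacter hχ)
    refine ⟨d, y, c, fun _ => ⟨hd, hd0, hy, hy4, hyl, hyu, hc, fun b => ?_⟩⟩
    have h := ColumnData.count_pow E.ord hc hc (a := -1) (neg_ne_zero.2 one_ne_zero) (fun j => ?_) b
    · rwa [neg_one_mul] at h
    · refine IsClassFunction.apply_eq_of_isConj (IsIrrCharacter.isClassFunction hχ) (isConj_iff.2 ⟨t, ?_⟩)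
      rw [E.conj_t, neg_one_mul, eq_comm, eq_inv_iff_mul_eq_one, ← ColumnData.pow_val_add E.ord,
        neg_add_cancel, ZMod.val_zero, pow_zero]
  choose D Y C hv using hvals
  set triv : G → ℂ := fun _ => 1 with htriv
  have htm : triv ∈ irrFinset G := mem_irrFinset.mpr isIrrCharacter_one
  have hD1 : D triv = 1 := by
    have h := (hv triv htm).1
    simp only [htriv] at h
    exact_mod_cast h.symm
  have hY1 : Y triv = 1 := by
    have h := (hv triv htm).2.2.1
    simp only [htriv] at h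
    exact_mod_cast h.symm
  have hC1 : ∀ b, C triv b = if b = 0 then 1 else 0 := by
    intro b
    have h := ColumnData.count_formula E.ord (hv triv htm).2.2.2.2.2.2.1 b
    simp only [htriv, one_mul] at h
    rw [show (∑ j : ZMod p, ZMod.stdAddChar (-(b * j))) = ∑ j : ZMod p, ZMod.stdAddChar (j * (-b)) from
      sum_congr rfl fun j _ => by rw [mul_neg, mul_comm], ColumnData.sum_stdAddChar] at h
    have hp0 : (p : ℂ) ≠ 0 := Nat.cast_ne_zero.mpr hp.out.ne_zero
    by_cases hb : b = 0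
    · rw [if_pos (by rw [hb, neg_zero])] at h
      rw [if_pos hb]
      exact_mod_cast mul_left_cancel₀ hp0 (h.trans (mul_one _).symm)
    · rw [if_neg (neg_ne_zero.2 hb)] at h
      rw [if_neg hb]
      exact_mod_cast (mul_eq_zero.1 h).resolve_left hp0
  have hpv : ∀ j : ZMod p, j ≠ 0 → ¬ p ∣ j.val := fun j hj hd =>
    hj ((ZMod.val_eq_zero j).1 (Nat.eq_zero_of_dvd_of_lt hd (ZMod.val_lt j)))
  have hval : ∀ j : ZMod p, ∀ χ ∈ irrFinset G, χ (s ^ j.val) = ∑ b, (C χ b : ℂ) * ZMod.stdAddChar (b * j) :=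
    fun j χ hχ => (hv χ hχ).2.2.2.2.2.2.1 j
  have hcard : ∀ j : ZMod p, j ≠ 0 → Nat.card (Subgroup.centralizer ({s ^ j.val} : Set G)) = p :=
    fun j hj => by rw [E.centralizer_pow (hpv j hj), Nat.card_zpowers, E.ord]
  -- orthogonality of a column with the columns of the powers of `s`
  have horth : ∀ (g : G) (f : (G → ℂ) → ℤ), (∀ χ ∈ irrFinset G, χ g = f χ) →
      (∀ j : ZMod p, j ≠ 0 → ¬ IsConj g (s ^ j.val)) → ∀ b,
      (p : ℤ) * ∑ χ ∈ irrFinset G, f χ * C χ b = ∑ χ ∈ irrFinset G, f χ * D χ := by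
    intro g f hf hgj b
    apply (Int.cast_injective (α := ℂ))
    push_cast
    rw [mul_sum]
    have hcol : ∀ j : ZMod p, j ≠ 0 → ∑ χ ∈ irrFinset G, (f χ : ℂ) * χ (s ^ j.val) = 0 := by
      intro j hj
      have h := sum_irr_mul_conj g (s ^ (-j).val)
      rw [if_neg (hgj _ (neg_ne_zero.2 hj))] at h
      rw [← h]
      refine sum_congr rfl fun χ hχ => ?_
      rw [hf χ hχ, show s ^ (-j).val = (s ^ j.val)⁻¹ by
          rw [eq_inv_iff_mul_eq_one, ← ColumnData.pow_val_add E.ord, neg_add_cancel, ZMod.val_zero, pow_zero],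
        IsIrrCharacter.apply_inv (mem_irrFinset.1 hχ), Complex.conj_conj]
    calc ∑ χ ∈ irrFinset G, (p : ℂ) * ((f χ : ℂ) * (C χ b : ℂ))
        = ∑ χ ∈ irrFinset G, ∑ j : ZMod p, (f χ : ℂ) * χ (s ^ j.val) * ZMod.stdAddChar (-(b * j)) :=
          sum_congr rfl fun χ hχ => by
            rw [mul_left_comm, ColumnData.count_formula E.ord (fun j => hval j χ hχ) b, mul_sum]
            simp only [mul_assoc]
      _ = ∑ j : ZMod p, (∑ χ ∈ irrFinset G, (f χ : ℂ) * χ (s ^ j.val)) * ZMod.stdAddChar (-(b * j)) := by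
          rw [sum_comm]; simp only [sum_mul]
      _ = ∑ χ ∈ irrFinset G, (f χ : ℂ) * χ (s ^ (0 : ZMod p).val) := by
          rw [sum_eq_single 0 (fun j _ hj => by rw [hcol j hj, zero_mul])
            (fun h => absurd (mem_univ _) h), mul_zero, neg_zero, AddChar.map_zero_eq_one, mul_one]
      _ = ∑ χ ∈ irrFinset G, (f χ : ℂ) * (D χ : ℂ) := sum_congr rfl fun χ hχ => by
          rw [ZMod.val_zero, pow_zero, (hv χ hχ).1]
  have hSq : ∑ χ ∈ irrFinset G, (D χ : ℤ) * D χ = n := by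
    have h := sum_degree_sq (G := G)
    rw [hn, sum_congr rfl fun χ hχ => by rw [(hv χ hχ).1, sq]] at h
    exact_mod_cast h
  have hz1 : z ≠ 1 := fun h => by rw [h, orderOf_one] at hz; omega
  refine ⟨fun χ => D χ, Y, fun χ b => C χ b, ?_, ?_, ?_, ?_, ?_, ?_, ?_, ?_⟩
  · intro χ hχ hne
    obtain ⟨h1, hd0, hy, hy4, hyl, hyu, -, -⟩ := hv χ hχ
    let χ' : Cfsg.IrrCharacter G := ⟨χ, mem_irrFinset.1 hχ⟩
    have hdeg : Cfsg.charDegree (χ' : G → ℂ) = D χ := by
      show Cfsg.charDegree χ = D χ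
      rw [Cfsg.charDegree, h1, Complex.natCast_re, Nat.floor_natCast]
    have h2 : 2 ≤ D χ := by
      by_contra h2
      exact ColumnData.ne_one_of_simple hG (mem_irrFinset.1 hχ) hne (by rw [h1, show D χ = 1 by omega, Nat.cast_one])
    obtain ⟨m, ρ, hirr, hρ⟩ := mem_irrFinset.1 hχ
    haveI := hirr
    have hm : m = D χ := by
      have : ρ.character 1 = (D χ : ℂ) := by rw [hρ]; exact h1
      rw [ρ.char_one, Module.finrank_fin_fun] at this
      exact_mod_cast this
    have hnorm : ‖χ z‖ ≠ (D χ : ℝ) := fun h => hne (by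
      rw [← hρ]
      refine eq_one_of_norm_eq_of_simple (fun hc => hG ⟨⟨hc⟩⟩) ρ hz1 ?_
      rw [hρ, h, Module.finrank_fin_fun, hm])
    have hsq := single_le_sum (s := (irrFinset G).erase triv) (f := fun ψ => (D ψ : ℤ) * D ψ) (fun ψ _ => mul_self_nonneg _)
      (mem_erase.2 ⟨hne, hχ⟩)
    have hsq' := (add_sum_erase (irrFinset G) (fun ψ => (D ψ : ℤ) * D ψ) htm).trans hSq
    have hD1' : D triv = 1 := hD1
    simp only [hD1', Nat.cast_one, mul_one] at hsq'
    refine ⟨by omega, by omega, ?_, ?_, ?_, hy4⟩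
    · exact_mod_cast hn ▸ hdeg ▸ CfsgLib.Block.charDegree_dvd_card χ'
    · rcases lt_or_eq_of_le hyl with h | h
      · exact h
      · exact absurd (by rw [hy, ← h]; simp) hnorm
    · rcases lt_or_eq_of_le hyu with h | h
      · exact h
      · exact absurd (by rw [hy, h]; simp) hnorm
  · intro χ hχ
    have h := ColumnData.sum_count E.ord fun j => hval j χ hχ
    rw [(hv χ hχ).1] at h
    exact_mod_cast h
  · intro χ hχ b
    exact_mod_cast (hv χ hχ).2.2.2.2.2.2.2 b
  · exact ⟨by exact_mod_cast hD1, hY1, fun b => by rw [hC1 b]; split_ifs <;> rfl⟩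
  · intro b
    rw [horth 1 (fun χ => (D χ : ℤ)) (fun χ hχ => by rw [(hv χ hχ).1, Int.cast_natCast])
      (fun j hj h => hpv j hj (by
        have h' := orderOf_dvd_of_pow_eq_one (isConj_one_right.1 h)
        rwa [E.ord] at h')) b, hSq]
  · intro b
    have h := horth z Y (fun χ hχ => (hv χ hχ).2.2.1) (fun j _ => E.not_isConj_t _ hz) b
    have h0 : ∑ χ ∈ irrFinset G, Y χ * (D χ : ℤ) = 0 := by
      have h' := sum_irr_mul_conj z 1
      rw [if_neg fun hc => hz1 (isConj_one_left.1 hc), sum_congr rfl fun χ hχ => by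
        rw [(hv χ hχ).2.2.1, (hv χ hχ).1, map_natCast]] at h'
      exact_mod_cast h'
    rw [h0] at h
    exact (mul_eq_zero.1 h).resolve_left (Int.natCast_ne_zero.2 hp.out.ne_zero)
  · intro k hk
    apply (Int.cast_injective (α := ℂ))
    push_cast
    have hsum : ∀ χ ∈ irrFinset G, (p : ℂ) * ∑ b, (C χ b : ℂ) * (C χ (k * b) : ℂ) - (D χ : ℂ) * (D χ : ℂ) =
        ∑ j ∈ univ.erase (0 : ZMod p), χ (s ^ j.val) * conj (χ (s ^ (k * j).val)) := by
      intro χ hχ
      rw [eq_comm, eq_sub_iff_add_eq', ← show χ (s ^ (0 : ZMod p).val) * conj (χ (s ^ (k * 0).val)) =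
        (D χ : ℂ) * (D χ : ℂ) by rw [mul_zero, ZMod.val_zero, pow_zero, (hv χ hχ).1, map_natCast],
        add_sum_erase _ (fun j => χ (s ^ j.val) * conj (χ (s ^ (k * j).val))) (mem_univ _), mul_sum]
      have h : ∀ j : ZMod p, χ (s ^ j.val) * conj (χ (s ^ (k * j).val)) =
          ∑ b, (C χ b : ℂ) * (χ (s ^ j.val) * ZMod.stdAddChar (-((k * b) * j))) := by
        intro j
        conv_lhs => arg 2; rw [hval _ χ hχ, map_sum]
        rw [mul_sum]
        refine sum_congr rfl fun b _ => ?_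
        rw [map_mul, map_natCast, ← AddChar.map_neg_eq_conj,
          show -(b * (k * j)) = -(k * b * j) by ring]
        ring
      rw [sum_congr rfl fun j _ => h j, sum_comm]
      refine sum_congr rfl fun b _ => ?_
      rw [← mul_sum, ← ColumnData.count_formula E.ord (fun j => hval j χ hχ)]
      ring
    rw [sum_congr rfl hsum, sum_comm]
    have hj : ∀ j ∈ univ.erase (0 : ZMod p), ∑ χ ∈ irrFinset G, χ (s ^ j.val) * conj (χ (s ^ (k * j).val)) =
        if k = 1 ∨ k = -1 then (p : ℂ) else 0 := by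
      intro j hj
      have hj0 := ne_of_mem_erase hj
      rw [sum_irr_mul_conj]
      by_cases hk1 : k = 1 ∨ k = -1
      · rw [if_pos hk1, if_pos ?_, hcard j hj0]
        rcases hk1 with rfl | rfl
        · rw [one_mul]
        · refine isConj_iff.2 ⟨t, ?_⟩
          rw [E.conj_t, neg_one_mul, eq_comm, eq_inv_iff_mul_eq_one, ← ColumnData.pow_val_add E.ord,
            neg_add_cancel, ZMod.val_zero, pow_zero]
      · rw [if_neg hk1, if_neg]
        intro hc
        apply hk1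
        have hinj : ∀ a b : ZMod p, s ^ a.val = s ^ b.val → a = b := fun a b h => by
          rw [pow_inj_mod, E.ord, Nat.mod_eq_of_lt (ZMod.val_lt a), Nat.mod_eq_of_lt (ZMod.val_lt b)] at h
          exact ZMod.val_injective p h
        rcases E.pow_of_isConj (hpv _ (mul_ne_zero hk hj0)) hc with h | h
        · left
          exact mul_right_cancel₀ hj0 ((hinj _ _ h).trans (one_mul j).symm)
        · right
          rw [show (s ^ j.val)⁻¹ = s ^ (-j).val by
            rw [eq_comm, eq_inv_iff_mul_eq_one, ← ColumnData.pow_val_add E.ord, neg_add_cancel, ZMod.val_zero, pow_zero]] at h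
          exact mul_right_cancel₀ hj0 ((hinj _ _ h).trans (neg_one_mul j).symm)
    rw [sum_congr rfl hj, sum_const, card_erase_of_mem (mem_univ _), card_univ, ZMod.card, nsmul_eq_mul,
      Nat.cast_sub hp.out.one_le, Nat.cast_one]
    split_ifs <;> push_cast <;> ring
  · refine ⟨if IsConj t z then (p : ℤ) * ((p : ℤ) - 1) else 0, ?_, ?_⟩
    · by_cases hc : IsConj t z
      · exact Or.inl ⟨hc, if_pos hc⟩
      · exact Or.inr ⟨hc, if_neg hc⟩
    set K := Nat.card {x : G // IsConj z x} with hK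
    have hn0 : (n : ℂ) ≠ 0 := Nat.cast_ne_zero.2 (hn ▸ Nat.card_pos.ne')
    have hj : ∀ j ∈ univ.erase (0 : ZMod p), ((if IsConj t z then p else 0 : ℕ) : ℂ) * n =
        (K : ℂ) * K * ∑ χ ∈ irrFinset G, χ z * χ z * conj (χ (s ^ j.val)) / χ 1 := by
      intro j hj
      have h := card_class_products z z (s ^ j.val)
      rw [E.card_pairs (hpv j (ne_of_mem_erase hj)) hz, hn] at h
      rw [h]
      field_simp
      simp only [hK]
      ring
    have hsumj : ∀ χ ∈ irrFinset G, ∑ j ∈ univ.erase (0 : ZMod p), conj (χ (s ^ j.val)) =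
        (p : ℂ) * (C χ 0 : ℂ) - (D χ : ℂ) := by
      intro χ hχ
      have hall : ∑ j : ZMod p, χ (s ^ j.val) = (p : ℂ) * (C χ 0 : ℂ) := by
        rw [ColumnData.count_formula E.ord (fun j => hval j χ hχ) 0]
        exact sum_congr rfl fun j _ => by rw [zero_mul, neg_zero, AddChar.map_zero_eq_one, mul_one]
      rw [← map_sum, sum_erase_eq_sub (mem_univ _), hall, ZMod.val_zero, pow_zero, (hv χ hχ).1, map_sub,
        map_mul, map_natCast, map_natCast, map_natCast]
    have h := sum_congr rfl hj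
    rw [sum_const, card_erase_of_mem (mem_univ _), card_univ, ZMod.card, nsmul_eq_mul, ← mul_sum, sum_comm] at h
    rw [sum_congr rfl fun χ (hχ : χ ∈ irrFinset G) => show
      ∑ j ∈ univ.erase (0 : ZMod p), χ z * χ z * conj (χ (s ^ j.val)) / χ 1 =
        (((Y χ * Y χ * ((p : ℤ) * C χ 0 - D χ) * ((n : ℤ) / D χ) : ℤ)) : ℂ) / n from ?_] at h
    · rw [← sum_div] at h
      apply (Int.cast_injective (α := ℂ))
      rw [Nat.cast_sub hp.out.one_le, Nat.cast_one] at h
      field_simp at h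
      rw [Int.cast_mul, Int.cast_sum, Int.cast_mul]
      push_cast at h ⊢
      split_ifs at h ⊢ <;> push_cast at h ⊢ <;> linear_combination -h
    · obtain ⟨h1, hd0, hy, -⟩ := hv χ hχ
      let χ' : Cfsg.IrrCharacter G := ⟨χ, mem_irrFinset.1 hχ⟩
      have hdeg : Cfsg.charDegree (χ' : G → ℂ) = D χ := by
        show Cfsg.charDegree χ = D χ
        rw [Cfsg.charDegree, h1, Complex.natCast_re, Nat.floor_natCast]
      obtain ⟨q, hq⟩ : D χ ∣ n := hn ▸ hdeg ▸ CfsgLib.Block.charDegree_dvd_card χ'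
      rw [← sum_div, ← mul_sum, hsumj χ hχ, hy, h1, hq]
      push_cast
      rw [Int.mul_ediv_cancel_left _ (by exact_mod_cast hd0.ne')]
      have hd' : (D χ : ℂ) ≠ 0 := Nat.cast_ne_zero.2 hd0.ne'
      have hq' : (q : ℂ) ≠ 0 := by
        intro h0
        exact hn0 (by rw [hq, Nat.cast_mul, h0, mul_zero])
      push_cast
      field_simp

end Dihedral

end CfsgLib.RealPrime
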