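import Cfsg.Agent.SmallSimple.RealPrime.Basic
import Cfsg.Agent.SmallSimple.OrderBound.FourTwenty

/-!
# Obtaining the dihedral normaliser from the Sylow data
-/

set_option autoImplicit false
set_option linter.style.haveILetI false

namespace CfsgLib.RealPrime

open CfsgLib.SylowCheck CfsgLib.OrderBound

variable {G : Type*} [Group G] [Finite G] [IsSimpleGroup G]

theorem exists_dihedral_of_opts (hG : ¬ IsMulCommutative G) {n p k u a w b : ℕ} [Fact p.Prime] (hp2 : p ≠ 2)
    (hn : Nat.card G = n) (he : entryB n (p, some (u, a, w, b)) = true)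
    (hopt : (opts (divisorList n) n p).filter (keepB (p, some (u, a, w, b))) = [(p, k, 1)])
    (hk : n = k * (2 * p)) : ∃ s t : G, Dihedral p s t := by
  obtain ⟨x, hx, hr, -⟩ := exists_real_keep hG hn he
  rw [hopt, List.mem_singleton] at hx
  subst hx
  obtain ⟨P⟩ : Nonempty (Sylow p G) := inferInstance
  obtain ⟨hP, hC⟩ := hr.2.2.2 P
  refine exists_dihedral hp2 P hP (hC.trans (mul_one p)) ?_
  have h1 := CfsgLib.SmallSimple.card_sylow_mul P
  have h2 : Nat.card (Sylow p G) = k := hr.2.2.1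
  rw [h2, hn, hk] at h1
  refine Nat.eq_of_mul_eq_mul_left ?_ h1
  rcases Nat.eq_zero_or_pos k with h | h
  · rw [h, zero_mul] at hk
    exact absurd (hn.trans hk) Nat.card_pos.ne'
  · exact h

/-- An involution in the centre of a Sylow 2-subgroup has a class of odd size. -/
theorem exists_central_involution {n a m : ℕ} (hn : Nat.card G = n) (hm : n = 2 ^ a * m) (hmo : ¬ 2 ∣ m)
    (ha : a ≠ 0) : ∃ z : G, orderOf z = 2 ∧ Nat.card {x : G // IsConj z x} ∣ m := by
  haveI : Fact (Nat.Prime 2) := ⟨Nat.prime_two⟩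
  obtain ⟨P⟩ : Nonempty (Sylow 2 G) := inferInstance
  have hP : Nat.card (P : Subgroup G) = 2 ^ a :=
    CfsgLib.SmallSimple.card_sylow_eq P (k := a) (m := m) (hn.trans hm) hmo
  haveI : Nontrivial (P : Subgroup G) := Finite.one_lt_card_iff_nontrivial.1 (hP ▸ Nat.one_lt_two_pow ha)
  haveI := P.2.center_nontrivial
  obtain ⟨k, hk⟩ := (P.2.to_subgroup (Subgroup.center (P : Subgroup G))).exists_card_eq
  have hk0 : k ≠ 0 := fun h => by
    rw [h, pow_zero] at hk
    have := Finite.one_lt_card (α := Subgroup.center (P : Subgroup G))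
    omega
  obtain ⟨z, hz⟩ := exists_prime_orderOf_dvd_card' (G := Subgroup.center (P : Subgroup G)) 2
    (hk ▸ dvd_pow_self 2 hk0)
  refine ⟨((z : (P : Subgroup G)) : G), by rw [Subgroup.orderOf_coe, Subgroup.orderOf_coe, hz], ?_⟩
  have hle : (P : Subgroup G) ≤ Subgroup.centralizer ({((z : (P : Subgroup G)) : G)} : Set G) := fun x hx =>
    Subgroup.mem_centralizer_singleton_iff.2 (congrArg Subtype.val (Subgroup.mem_center_iff.1 z.2 ⟨x, hx⟩))
  obtain ⟨q, hq⟩ := hP ▸ Subgroup.card_dvd_of_le hle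
  have h := CfsgLib.Char.card_conj_class_mul_card_centralizer ((z : (P : Subgroup G)) : G)
  rw [hn, hm, hq, mul_left_comm] at h
  exact ⟨q, (Nat.eq_of_mul_eq_mul_left (pow_pos two_pos a) h).symm⟩

end CfsgLib.RealPrime
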